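import Groth.Prelude.Def_CoactBr
import Mathlib.AlgebraicGeometry.Morphisms.Separated
import Mathlib.AlgebraicGeometry.Morphisms.ClosedImmersion
import Mathlib.AlgebraicGeometry.PullbackCarrier
import Mathlib.AlgebraicGeometry.Cover.Open

/-!
# Morphisms into separated schemes and universally injective ring maps
-/

universe u

open CategoryTheory CategoryTheory.Limits MonoidalCategory CartesianMonoidalCategory AlgebraicGeometry
open scoped TensorProduct

namespace Groth.Agent.GITLine

/-- Two morphisms from an affine scheme to a separated scheme which agree after an injective ring map are equal. -/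
theorem eq_of_specMap_comp {B B' : CommRingCat.{u}} (f : B ⟶ B') (hf : Function.Injective f)
    {X S : Scheme.{u}} (p : X ⟶ S) [IsSeparated p] (g h : Spec B ⟶ X) (hgh : g ≫ p = h ≫ p)
    (e : Spec.map f ≫ g = Spec.map f ≫ h) : g = h := by
  let d := pullback.diagonal p
  let e' : pullback d (pullback.lift g h hgh) ⟶ Spec B := pullback.snd _ _
  haveI : IsClosedImmersion e' := inferInstanceAs (IsClosedImmersion (pullback.snd _ _))
  let l : Spec B' ⟶ pullback d (pullback.lift g h hgh) :=
    pullback.lift (Spec.map f ≫ g) (Spec.map f) (by apply pullback.hom_ext <;> simp [d, e, pullback.lift_fst, pullback.lift_snd])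
  have hl : l ≫ e' = Spec.map f := pullback.lift_snd _ _ _
  haveI : IsIso e' := by
    refine IsClosedImmersion.isIso_of_injective_of_isAffine (f := e') fun a b hab => ?_
    have h1 : Function.Injective (Spec.map f).appTop := by
      intro x y hxy
      have hn : (Scheme.ΓSpecIso B).hom ≫ f = (Spec.map f).appTop ≫ (Scheme.ΓSpecIso B').hom :=
        (Scheme.ΓSpecIso_naturality f).symm
      have h2 : f ((Scheme.ΓSpecIso B).hom x) = f ((Scheme.ΓSpecIso B).hom y) := by
        rw [← CategoryTheory.ConcreteCategory.comp_apply, ← CategoryTheory.ConcreteCategory.comp_apply, hn,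
          CategoryTheory.ConcreteCategory.comp_apply, CategoryTheory.ConcreteCategory.comp_apply, hxy]
      exact (Scheme.ΓSpecIso B).commRingCatIsoToRingEquiv.injective (hf h2)
    apply h1
    rw [← hl, Scheme.Hom.comp_appTop, CategoryTheory.ConcreteCategory.comp_apply,
      CategoryTheory.ConcreteCategory.comp_apply, hab]
  have hc : pullback.fst d (pullback.lift g h hgh) ≫ d = e' ≫ pullback.lift g h hgh := pullback.condition
  have h1 := congrArg (· ≫ pullback.fst p p) hc
  have h2 := congrArg (· ≫ pullback.snd p p) hc
  simp only [d, Category.assoc, pullback.diagonal_fst, pullback.diagonal_snd, pullback.lift_fst, pullback.lift_snd] at h1 h2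
  exact (cancel_epi e').mp (h1.symm.trans h2)

/-- The case of an affine piece `Spec C` of `T`. -/
theorem affine_case {R A A' : Type u} [CommRing R] [CommRing A] [CommRing A'] [Algebra R A]
    [Algebra R A'] (ι : A →ₐ[R] A')
    (hι : ∀ (C : Type u) [CommRing C] [Algebra R C],
      Function.Injective (Algebra.TensorProduct.map ι (AlgHom.id R C)))
    {X T : Scheme.{u}} (p : X ⟶ Spec (CommRingCat.of R)) [IsSeparated p] (g : T ⟶ Spec (CommRingCat.of R))
    (a : pullback (Spec.map (CommRingCat.ofHom (algebraMap R A'))) g ⟶
      pullback (Spec.map (CommRingCat.ofHom (algebraMap R A))) g)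
    (ha₁ : a ≫ pullback.fst _ _ = pullback.fst _ _ ≫ Spec.map (CommRingCat.ofHom ι.toRingHom))
    (ha₂ : a ≫ pullback.snd _ _ = pullback.snd _ _)
    (u v : pullback (Spec.map (CommRingCat.ofHom (algebraMap R A))) g ⟶ X) (huv : u ≫ p = v ≫ p)
    (h : a ≫ u = a ≫ v)
    {C : CommRingCat.{u}} (q : Spec C ⟶ T)
    (m : pullback (Spec.map (CommRingCat.ofHom (algebraMap R A))) (q ≫ g) ⟶
      pullback (Spec.map (CommRingCat.ofHom (algebraMap R A))) g)
    (hm₁ : m ≫ pullback.fst _ _ = pullback.fst _ _) (hm₂ : m ≫ pullback.snd _ _ = pullback.snd _ _ ≫ q) :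
    m ≫ u = m ≫ v := by
  obtain ⟨φ, hq⟩ : ∃ φ, Spec.map φ = q ≫ g := ⟨_, Spec.map_preimage _⟩
  letI : Algebra R C := φ.hom.toAlgebra
  have hC : Spec.map (CommRingCat.ofHom (algebraMap R C)) = q ≫ g := by rw [← hq]; rfl
  have hcond : ∀ (B : Type u) [CommRing B] [Algebra R B],
      Spec.map (CommRingCat.ofHom (Algebra.TensorProduct.includeLeftRingHom (R := R) (A := B) (B := C))) ≫
          Spec.map (CommRingCat.ofHom (algebraMap R B)) =
        (Spec.map (CommRingCat.ofHom (Algebra.TensorProduct.includeRight (R := R) (A := B) (B := C)).toRingHom) ≫ q) ≫ g := by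
    intro B _ _
    rw [Category.assoc, ← hC, ← Spec.map_comp, ← Spec.map_comp]
    congr 1; ext r
    exact (Algebra.TensorProduct.algebraMap_apply r).symm.trans
      ((Algebra.TensorProduct.includeRight (R := R) (A := B) (B := C)).commutes r).symm
  let e := pullback.lift _ _ (hcond A)
  let e' := pullback.lift _ _ (hcond A')
  have he : Spec.map (CommRingCat.ofHom (Algebra.TensorProduct.map ι (AlgHom.id R C)).toRingHom) ≫ e = e' ≫ a := by
    apply pullback.hom_ext
    · simp only [Category.assoc, e, ha₁, pullback.lift_fst, e', pullback.lift_fst_assoc]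
      rw [← Spec.map_comp, ← Spec.map_comp]; congr 1
    · simp only [Category.assoc, e, ha₂, pullback.lift_snd, e']
      rw [← Category.assoc, ← Spec.map_comp]; congr 2; ext x; simp
  have hkey : e ≫ u = e ≫ v := by
    refine eq_of_specMap_comp (CommRingCat.ofHom (Algebra.TensorProduct.map ι (AlgHom.id R C)).toRingHom) (hι C) p _ _ (by simp only [Category.assoc, huv]) ?_
    rw [← Category.assoc, ← Category.assoc, he, Category.assoc, Category.assoc, h]
  let c : pullback (Spec.map (CommRingCat.ofHom (algebraMap R A))) (q ≫ g) ⟶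
      pullback (Spec.map (CommRingCat.ofHom (algebraMap R A))) (Spec.map (CommRingCat.ofHom (algebraMap R C))) :=
    pullback.lift (pullback.fst _ _) (pullback.snd _ _) (by rw [hC]; exact pullback.condition)
  have hfac : m = c ≫ (pullbackSpecIso R A C).hom ≫ e := by
    apply pullback.hom_ext
    · rw [hm₁, Category.assoc, Category.assoc, show e ≫ pullback.fst _ _ = _ from pullback.lift_fst _ _ _]
      exact ((congrArg (c ≫ ·) (pullbackSpecIso_hom_fst R A C)).trans (pullback.lift_fst _ _ _)).symm
    · have h2 : c ≫ (pullbackSpecIso R A C).hom ≫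
          Spec.map (CommRingCat.ofHom (Algebra.TensorProduct.includeRight (R := R) (A := A) (B := C)).toRingHom) =
            pullback.snd _ _ := by
        exact (congrArg (c ≫ ·) (pullbackSpecIso_hom_snd R A C)).trans (pullback.lift_snd _ _ _)
      rw [hm₂, Category.assoc, Category.assoc, show e ≫ pullback.snd _ _ = _ from pullback.lift_snd _ _ _, ← h2]
      simp only [Category.assoc]
  rw [hfac]
  simp only [Category.assoc]
  rw [hkey]

/-- An algebra map which stays injective after every base change is, after every base change, an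
epimorphism for morphisms to separated schemes. -/
theorem eq_of_whiskerRight_comp {R A A' : Type u} [CommRing R] [CommRing A] [CommRing A'] [Algebra R A]
    [Algebra R A'] (ι : A →ₐ[R] A')
    (hι : ∀ (C : Type u) [CommRing C] [Algebra R C],
      Function.Injective (Algebra.TensorProduct.map ι (AlgHom.id R C)))
    {X : Over (Spec (CommRingCat.of R))} [IsSeparated X.hom] (T : Over (Spec (CommRingCat.of R)))
    (u v : CoactBr.sp R A ⊗ T ⟶ X) (h : (CoactBr.pt ι ▷ T) ≫ u = (CoactBr.pt ι ▷ T) ≫ v) : u = v := by
  apply Over.OverMorphism.ext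
  refine Scheme.Cover.hom_ext (Scheme.Pullback.openCoverOfRight T.left.affineCover (CoactBr.sp R A).hom T.hom) _ _ ?_
  intro i
  refine affine_case ι hι X.hom T.hom (CoactBr.pt ι ▷ T).left ?_ ?_ u.left v.left ((Over.w u).trans (Over.w v).symm)
    (congrArg CommaMorphism.left h) (T.left.affineCover.f i)
    ((Scheme.Pullback.openCoverOfRight T.left.affineCover (CoactBr.sp R A).hom T.hom).f i) ?_ ?_
  · rw [Over.whiskerRight_left]
    exact pullback.lift_fst _ _ _
  · rw [Over.whiskerRight_left]
    exact (pullback.lift_snd _ _ _).trans (Category.comp_id _)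
  · exact (pullback.lift_fst _ _ _).trans (Category.comp_id _)
  · exact pullback.lift_snd _ _ _

end Groth.Agent.GITLine
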